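import Cfsg.Agent.S2082
import Cfsg.Agent.H440.TwoGen.HNHe
import Cfsg.Agent.H891.DG.Nielsen

/-!
# `Cos2` for `HN` (helper68, TEAM GEN, S4180)

`α : x ↦ x, y ↦ y, z ↦ z x², t ↦ t²` is an outer automorphism of `HN` and `Aut HN = ⟨y t, (x z) α⟩`.
-/

set_option autoImplicit false

namespace Cfsg.Agent.H68.DG.CosHN

open Cfsg.Agent.H440.TwoGen (TwoGen left_mem_of_pow right_mem_of_pow)

universe u

theorem hn_outer {G : Type u} [Group G] {x y z t : G} (hy : y ^ 6 = 1) (ht : t ^ 5 = 1) (hty : t * y = y * t)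
    (hz : z * z = 1) (hx4 : x ^ 2 * x ^ 2 = 1) (hxt : x⁻¹ * t * x = (t ^ 2)⁻¹) (hzt : (z * t) ^ 3 = 1)
    (hzx : (z * x) ^ 2 = 1) (hzx2 : z * x ^ 2 = x ^ 2 * z)
    (hr : (t * t * z * t⁻¹) * x ^ 2 * (t * t * z * t⁻¹)⁻¹ = z)
    (hw : z * (((y ^ 3 * x * y * x * y)⁻¹ * z * (y ^ 3 * x * y * x * y)) * x) ^ 3 = 1)
    (α : MulAut G) (ay : α y = y) (az : α z = z * x ^ 2) (at' : α t = t ^ 2) (S : Subgroup G)
    (h1 : y * t ∈ S) (hS : ∀ k : G, k ∈ S ↔ (x * z) * α k * (x * z)⁻¹ ∈ S) : x ∈ S ∧ y ∈ S ∧ z ∈ S ∧ t ∈ S := by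
  have hyS : y ∈ S := left_mem_of_pow S hty.symm hy ht (by decide) h1
  have htS : t ∈ S := right_mem_of_pow S hty.symm hy ht (by decide) h1
  have hzi : z⁻¹ = z := inv_eq_of_mul_eq_one_left hz
  have hx2i : (x ^ 2)⁻¹ = x ^ 2 := inv_eq_of_mul_eq_one_left hx4
  -- `z x² · k · z x² · z⁻¹`
  have e1 : ∀ k : G, (x * z) * (z * x ^ 2 * k * (z * x ^ 2)) * (x * z)⁻¹ = x⁻¹ * k * x := by
    intro k
    calc (x * z) * (z * x ^ 2 * k * (z * x ^ 2)) * (x * z)⁻¹
        = x * (z * z) * x ^ 2 * k * (z * x ^ 2) * z⁻¹ * x⁻¹ := by group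
      _ = x * x ^ 2 * k * (x ^ 2 * z) * z⁻¹ * x⁻¹ := by rw [hz, mul_one, hzx2]
      _ = x⁻¹ * (x ^ 2 * x ^ 2) * k * x := by group
      _ = x⁻¹ * k * x := by rw [hx4, mul_one]
  have h2 : z * t * z ∈ S := by
    rw [hS, map_mul, map_mul, az, at', e1]
    have h3 : x⁻¹ * t ^ 2 * x = t := by
      calc x⁻¹ * t ^ 2 * x = (x⁻¹ * t * x) * (x⁻¹ * t * x) := by
            rw [pow_two]; simp only [mul_assoc, mul_inv_cancel_left]
        _ = (t ^ 5)⁻¹ * t := by rw [hxt]; group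
        _ = t := by rw [ht, inv_one, one_mul]
    rwa [h3]
  have hzS : z ∈ S := by
    have h5 : z = t * (z * t * z) * t := by
      have h6 : (z * t) * (z * t) * (z * t) = 1 := by rw [← hzt]; simp only [pow_succ, pow_zero, one_mul]
      have h7 : z * (t * (z * t * z) * t) = 1 := by rw [← h6]; simp only [mul_assoc]
      have h8 := inv_eq_of_mul_eq_one_right h7
      rwa [hzi] at h8
    rw [h5]
    exact S.mul_mem (S.mul_mem htS h2) htS
  have hx2S : x ^ 2 ∈ S := by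
    have h5 : x ^ 2 = (t * t * z * t⁻¹)⁻¹ * z * (t * t * z * t⁻¹) := by
      calc x ^ 2 = (t * t * z * t⁻¹)⁻¹ * ((t * t * z * t⁻¹) * x ^ 2 * (t * t * z * t⁻¹)⁻¹) * (t * t * z * t⁻¹) := by
            group
        _ = _ := by rw [hr]
    have h6 : t * t * z * t⁻¹ ∈ S := S.mul_mem (S.mul_mem (S.mul_mem htS htS) hzS) (S.inv_mem htS)
    rw [h5]
    exact S.mul_mem (S.mul_mem (S.inv_mem h6) hzS) h6
  have huS : x⁻¹ * y * x ∈ S := by
    have h3 : z * y * z ∈ S := S.mul_mem (S.mul_mem hzS hyS) hzS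
    rw [hS, map_mul, map_mul, az, ay, e1] at h3
    exact h3
  have huS' : x * y * x⁻¹ ∈ S := by
    have h3 : x * y * x⁻¹ = x ^ 2 * (x⁻¹ * y * x) * (x ^ 2)⁻¹ := by group
    rw [h3]
    exact S.mul_mem (S.mul_mem hx2S huS) (S.inv_mem hx2S)
  -- conjugation by `x`
  have hxz : x * z * x⁻¹ = z * (x ^ 2)⁻¹ := by
    have h3 : z * x * z * x = 1 := by rw [← hzx, pow_two]; simp only [mul_assoc]
    have h4 : x * z = z * x⁻¹ := by
      calc x * z = z⁻¹ * (z * x * z * x) * x⁻¹ := by group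
        _ = z * x⁻¹ := by rw [h3, mul_one, hzi]
    rw [h4]; group
  have hxzS : x * z * x⁻¹ ∈ S := by
    rw [hxz]
    exact S.mul_mem hzS (S.inv_mem hx2S)
  set w : G := y ^ 3 * x * y * x * y with hwdef
  have hwS : w ∈ S := by
    have h3 : w = y ^ 3 * (x * y * x⁻¹) * x ^ 2 * y := by rw [hwdef]; group
    rw [h3]
    exact S.mul_mem (S.mul_mem (S.mul_mem (S.pow_mem hyS 3) huS') hx2S) hyS
  have hwS' : x * w * x⁻¹ ∈ S := by
    have h3 : x * w * x⁻¹ = (x * y * x⁻¹) ^ 3 * (x ^ 2 * y * (x ^ 2)⁻¹) * x ^ 2 * (x * y * x⁻¹) := by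
      rw [hwdef, conj_pow]; group
    rw [h3]
    exact S.mul_mem (S.mul_mem (S.mul_mem (S.pow_mem huS' 3) (S.mul_mem (S.mul_mem hx2S hyS) (S.inv_mem hx2S))) hx2S)
      huS'
  have hvS : w⁻¹ * z * w ∈ S := S.mul_mem (S.mul_mem (S.inv_mem hwS) hzS) hwS
  have hvS' : x * (w⁻¹ * z * w) * x⁻¹ ∈ S := by
    have h3 : x * (w⁻¹ * z * w) * x⁻¹ = (x * w * x⁻¹)⁻¹ * (x * z * x⁻¹) * (x * w * x⁻¹) := by group
    rw [h3]
    exact S.mul_mem (S.mul_mem (S.inv_mem hwS') hxzS) hwS'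
  have hx3S : x ^ 3 ∈ S := by
    have h3 : (z * (w⁻¹ * z * w) * (x * (w⁻¹ * z * w) * x⁻¹) * (x ^ 2 * (w⁻¹ * z * w) * (x ^ 2)⁻¹)) * x ^ 3 = 1 := by
      have h4 : ∀ a : G, a ^ 3 = a * a * a := fun a => by rw [pow_succ, pow_two]
      rw [← hw, h4 (w⁻¹ * z * w * x)]
      simp only [h4 x, pow_two, mul_inv_rev, mul_assoc, inv_mul_cancel_left]
    rw [← inv_eq_of_mul_eq_one_right h3]
    exact S.inv_mem (S.mul_mem (S.mul_mem (S.mul_mem hzS hvS) hvS')
      (S.mul_mem (S.mul_mem hx2S hvS) (S.inv_mem hx2S)))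
  have hxS : x ∈ S := by
    have h3 : x = x ^ 3 * (x ^ 2)⁻¹ := by group
    rw [h3]
    exact S.mul_mem hx3S (S.inv_mem hx2S)
  exact ⟨hxS, hyS, hzS, htS⟩

open Cfsg.Agent.HN Cfsg.Agent.HN.Pres Cfsg.Agent.HN.HS100 Cfsg.Agent.HN.H0Basic Cfsg.Agent.H997.OutHN

/-- the outer automorphism of `HN`, with its values -/
theorem exists_outer' : ∃ α : MulAut Cfsg.Spor.HN, (∀ g : Cfsg.Spor.HN, α ≠ MulAut.conj g) ∧ α Pres.hx = Pres.hx ∧
    α Pres.hy = Pres.hy ∧ α Pres.hz = Pres.hz * Pres.hx ^ 2 ∧ α Pres.ht = Pres.ht ^ 2 := by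
  have hs := simple'
  have hfin := KFacts.HN.finite_HN
  obtain ⟨θ, hx, hy, hz, ht⟩ := exists_end
  have hx2 : Pres.hx ^ 2 ≠ 1 := by
    rw [← ψ_τ]
    intro h
    exact KFacts.HN.emb.ne (KFacts.HN.emb.inj (h.trans (map_one _).symm))
  have hinj : Function.Injective θ := by
    rw [← MonoidHom.ker_eq_bot_iff]
    rcases IsSimpleGroup.eq_bot_or_eq_top_of_normal θ.ker inferInstance with h | h
    · exact h
    · exfalso
      have h1 : Pres.hx ∈ θ.ker := by rw [h]; exact Subgroup.mem_top _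
      rw [MonoidHom.mem_ker, hx] at h1
      exact hx2 (by rw [h1, one_pow])
  refine ⟨MulEquiv.ofBijective θ (Finite.injective_iff_bijective.1 hinj), ?_, hx, hy, hz, ht⟩
  intro g hg
  have happ : ∀ u : Cfsg.Spor.HN, θ u = g * u * g⁻¹ := fun u =>
    congrArg (fun β : MulAut Cfsg.Spor.HN => β u) hg
  have hcomp : θ.comp NormalH.ψ = NormalH.ψ.comp twist := by
    refine MonoidHom.eq_of_eqOn_dense closure_gens ?_
    rintro h (rfl | rfl | rfl)
    · rw [MonoidHom.comp_apply, MonoidHom.comp_apply, twist_gx, NormalH.ψ_gx, hx]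
    · rw [MonoidHom.comp_apply, MonoidHom.comp_apply, twist_gy, NormalH.ψ_gy, hy]
    · rw [MonoidHom.comp_apply, MonoidHom.comp_apply, twist_gz, map_mul, NormalH.ψ_gz, ψ_τ, hz]
  have hc : ∀ u : Cfsg.Spor.HN, θ u = u → g * u = u * g := by
    intro u hu
    rw [happ] at hu
    exact mul_inv_eq_iff_eq_mul.1 hu
  have hgτ : g * NormalH.ψ τ = NormalH.ψ τ * g := by
    apply hc
    rw [ψ_τ, map_pow, hx]
  obtain ⟨h, rfl⟩ := KFacts.HN.emb.cent g hgτ
  have hK : ∀ k ∈ K, h * k = k * h := by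
    intro k hk
    apply KFacts.HN.emb.inj
    rw [map_mul, map_mul]
    apply hc
    have h1 := congrArg (fun f : H0 →* Cfsg.Spor.HN => f k) hcomp
    simp only [MonoidHom.comp_apply] at h1
    rw [h1, twist_of_mem hk]
  have hz' : θ Pres.hz = Pres.hz := by
    rw [happ, mul_inv_eq_iff_eq_mul, ← NormalH.ψ_gz, ← map_mul, ← map_mul]
    rcases StepFive.eq_of_comm_K hK with rfl | rfl
    · rw [one_mul, mul_one]
    · rw [τ_comm]
  rw [hz] at hz'
  exact hx2 (mul_eq_left.1 hz')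

theorem twoGen_aut : TwoGen (MulAut Cfsg.Spor.HN) := by
  have := simple'
  obtain ⟨α, hα, -, ay, az, at'⟩ := exists_outer'
  set L := Subgroup.closure ({MulAut.conj (Pres.hy * Pres.ht), MulAut.conj (Pres.hx * Pres.hz) * α} :
    Set (MulAut Cfsg.Spor.HN)) with hL
  have h1 : MulAut.conj (Pres.hy * Pres.ht) ∈ L := Subgroup.subset_closure (by simp)
  have h2 : MulAut.conj (Pres.hx * Pres.hz) * α ∈ L := Subgroup.subset_closure (by simp)
  set S : Subgroup Cfsg.Spor.HN := L.comap MulAut.conj with hSdef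
  have hS : ∀ k : Cfsg.Spor.HN, k ∈ S ↔ (Pres.hx * Pres.hz) * α k * (Pres.hx * Pres.hz)⁻¹ ∈ S := by
    intro k
    have e : MulAut.conj ((Pres.hx * Pres.hz) * α k * (Pres.hx * Pres.hz)⁻¹) =
        (MulAut.conj (Pres.hx * Pres.hz) * α) * MulAut.conj k * (MulAut.conj (Pres.hx * Pres.hz) * α)⁻¹ := by
      rw [map_mul, map_mul, map_inv]
      have e2 : MulAut.conj (α k) = α * MulAut.conj k * α⁻¹ := by
        ext u
        simp [MulAut.mul_apply, MulAut.conj_apply]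
      rw [e2]
      group
    rw [hSdef, Subgroup.mem_comap, Subgroup.mem_comap, e]
    constructor
    · intro h
      exact L.mul_mem (L.mul_mem h2 h) (L.inv_mem h2)
    · intro h
      have h3 := L.mul_mem (L.mul_mem (L.inv_mem h2) h) h2
      have h4 : ∀ a b : MulAut Cfsg.Spor.HN, a⁻¹ * (a * b * a⁻¹) * a = b := fun a b => by group
      rwa [h4] at h3
  have hy6 : Pres.hy ^ 6 = 1 := mk_extra (by simp [Cfsg.Spor.HN.extra])
  have hzt : (Pres.hz * Pres.ht) ^ 3 = 1 := mk_extra (by simp [Cfsg.Spor.HN.extra])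
  have hzx : (Pres.hz * Pres.hx) ^ 2 = 1 := mk_extra (by simp [Cfsg.Spor.HN.extra])
  have hw : Pres.hz * (((Pres.hy ^ 3 * Pres.hx * Pres.hy * Pres.hx * Pres.hy)⁻¹ * Pres.hz *
      (Pres.hy ^ 3 * Pres.hx * Pres.hy * Pres.hx * Pres.hy)) * Pres.hx) ^ 3 = 1 :=
    mk_extra (by simp [Cfsg.Spor.HN.extra])
  have hty : Pres.ht * Pres.hy = Pres.hy * Pres.ht := by
    calc Pres.ht * Pres.hy = Pres.hy * Pres.ht * (Pres.ht⁻¹ * Pres.hy⁻¹ * Pres.ht * Pres.hy) := by group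
      _ = Pres.hy * Pres.ht := by rw [rel_ty, mul_one]
  have hZZ : Pres.hz * Pres.hz = 1 := by rw [← pow_two]; exact rels_HN.r7
  have hSS : Pres.hx ^ 2 * Pres.hx ^ 2 = 1 := by rw [← ψ_τ, ← map_mul, τ_mul_τ, map_one]
  have hSZ : Pres.hz * Pres.hx ^ 2 = Pres.hx ^ 2 * Pres.hz := by
    rw [← ψ_τ, ← NormalH.ψ_gz, ← map_mul, ← map_mul, τ_comm]
  have hr := InvHN.r_τ
  rw [r_eq, ψ_τ, NormalH.ψ_gz] at hr
  obtain ⟨m1, m2, m3, m4⟩ := hn_outer hy6 rel_t5 hty hZZ hSS (mul_eq_one_iff_eq_inv.1 rel_tx) hzt hzx hSZ hr hw α ay az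
    at' S h1 hS
  have hStop : S = ⊤ := by
    rw [eq_top_iff]
    have h3 : (⊤ : Subgroup Cfsg.Spor.HN) ≤ S := by
      have h4 := Cfsg.Agent.H440.TwoGen.Cox.eq_top_of_forall (edges := Cfsg.Spor.HN.edges)
        (extra := Cfsg.Spor.HN.extra) S (fun w => by
          cases w
          · exact m1
          · exact m2
          · exact m3
          · exact m4)
      exact h4.ge
    exact h3
  have hInn : (MulAut.conj : Cfsg.Spor.HN →* MulAut Cfsg.Spor.HN).range ≤ L := by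
    rintro _ ⟨g, rfl⟩
    have h3 : g ∈ S := by rw [hStop]; exact Subgroup.mem_top _
    exact h3
  have hidx : (MulAut.conj : Cfsg.Spor.HN →* MulAut Cfsg.Spor.HN).range.index = 2 := Cfsg.Agent.S2082.result
  have hLtop : L = ⊤ := by
    have h5 := Subgroup.relIndex_mul_index hInn
    rw [hidx] at h5
    have h6 : L.index = 1 ∨ L.index = 2 := (Nat.dvd_prime Nat.prime_two).1 ⟨_, by rw [mul_comm]; exact h5.symm⟩
    rcases h6 with h6 | h6
    · exact Subgroup.index_eq_one.1 h6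
    · exfalso
      have h7 : (MulAut.conj : Cfsg.Spor.HN →* MulAut Cfsg.Spor.HN).range.relIndex L = 1 := by
        rw [h6] at h5
        omega
      have h8 := Subgroup.relIndex_eq_one.1 h7
      have h9 : α ∈ L := by
        have h10 := L.mul_mem (L.inv_mem (hInn ⟨Pres.hx * Pres.hz, rfl⟩)) h2
        rwa [inv_mul_cancel_left] at h10
      obtain ⟨g, hg⟩ := h8 h9
      exact hα g hg.symm
  exact ⟨_, _, hLtop⟩

open Cfsg.Agent.H891.DG in
theorem Cos2.congr {T S : Type*} [Group T] [Group S] (e : T ≃* S) (h : Cos2 S) : Cos2 T := by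
  intro x y
  set f : MulAut T ≃* MulAut S := MulAut.congr e with hf
  obtain ⟨s, ⟨s0, hs⟩, t, ⟨t0, ht⟩, hle⟩ := h (f x) (f y)
  have hconj : ∀ g : T, f (MulAut.conj g) = MulAut.conj (e g) := by
    intro g
    ext u
    simp [hf, MulAut.congr, MulAut.conj_apply]
  have hconj' : ∀ g : S, f.symm (MulAut.conj g) = MulAut.conj (e.symm g) := by
    intro g
    rw [MulEquiv.symm_apply_eq, hconj, MulEquiv.apply_symm_apply]
  refine ⟨f.symm s, ⟨e.symm s0, by rw [← hs, hconj']⟩, f.symm t, ⟨e.symm t0, by rw [← ht, hconj']⟩, ?_⟩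
  rintro _ ⟨g, rfl⟩
  have h1 : MulAut.conj (e g) ∈ Subgroup.closure ({f x * s, f y * t} : Set (MulAut S)) := hle ⟨e g, rfl⟩
  have h2 : Subgroup.closure ({x * f.symm s, y * f.symm t} : Set (MulAut T)) =
      (Subgroup.closure ({f x * s, f y * t} : Set (MulAut S))).map f.symm.toMonoidHom := by
    rw [MonoidHom.map_closure, Set.image_pair]
    congr 1
    simp
  rw [h2]
  refine ⟨MulAut.conj (e g), h1, ?_⟩
  change f.symm (MulAut.conj (e g)) = MulAut.conj g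
  rw [hconj', MulEquiv.symm_apply_apply]

open Cfsg.Agent.H891.DG in
/-- **`Cos2` for `HN`.** -/
theorem cos2_hn {T : Type u} [Group T] [Finite T] [IsSimpleGroup T] (h : Cfsg.Spor.IsoHN T) : Cos2 T := by
  obtain ⟨e⟩ := h
  have : Finite Cfsg.Spor.HN := KFacts.HN.finite_HN
  have : IsSimpleGroup Cfsg.Spor.HN := simple'
  exact Cos2.congr e (Nielsen.cos2_of_out_two Cfsg.Agent.H440.TwoGen.HNHe.hn Cfsg.Agent.S2082.result twoGen_aut)

end Cfsg.Agent.H68.DG.CosHN
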